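import Cfsg.Agent.Lib.H6.Y9TC.Steps5

set_option autoImplicit false
set_option maxRecDepth 1000000

/-! # invariant through part 5 of Y9 (generated) -/

namespace Cfsg.Agent.Lib.H6.Y9TC

open Cfsg.Agent.Lib.H17.CosetCert Cfsg.Agent.Lib.H6.TC

theorem part5 {G Q : Type} [Group G] [MulAction G Q] (γ : ℕ → G)
    (hiv : ∀ x < 9, γ (iv x) = (γ x)⁻¹) (q0 : Q) (hw : WordsOK γ q0 words)
    (h0 : Inv F 9 γ q0 125000 30355) : Inv F 9 γ q0 150000 35348 := by
  have h1 := checkSteps_sound F iv 9 262144 γ hiv q0 words hw steps125 125000 30355 30530 h0 chk125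
  rw [len125] at h1
  have h2 := checkSteps_sound F iv 9 262144 γ hiv q0 words hw steps126 126000 30530 30728 h1 chk126
  rw [len126] at h2
  have h3 := checkSteps_sound F iv 9 262144 γ hiv q0 words hw steps127 127000 30728 30916 h2 chk127
  rw [len127] at h3
  have h4 := checkSteps_sound F iv 9 262144 γ hiv q0 words hw steps128 128000 30916 31135 h3 chk128
  rw [len128] at h4
  have h5 := checkSteps_sound F iv 9 262144 γ hiv q0 words hw steps129 129000 31135 31396 h4 chk129
  rw [len129] at h5
  have h6 := checkSteps_sound F iv 9 262144 γ hiv q0 words hw steps130 130000 31396 31626 h5 chk130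
  rw [len130] at h6
  have h7 := checkSteps_sound F iv 9 262144 γ hiv q0 words hw steps131 131000 31626 31823 h6 chk131
  rw [len131] at h7
  have h8 := checkSteps_sound F iv 9 262144 γ hiv q0 words hw steps132 132000 31823 31972 h7 chk132
  rw [len132] at h8
  have h9 := checkSteps_sound F iv 9 262144 γ hiv q0 words hw steps133 133000 31972 32140 h8 chk133
  rw [len133] at h9
  have h10 := checkSteps_sound F iv 9 262144 γ hiv q0 words hw steps134 134000 32140 32336 h9 chk134
  rw [len134] at h10
  have h11 := checkSteps_sound F iv 9 262144 γ hiv q0 words hw steps135 135000 32336 32516 h10 chk135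
  rw [len135] at h11
  have h12 := checkSteps_sound F iv 9 262144 γ hiv q0 words hw steps136 136000 32516 32729 h11 chk136
  rw [len136] at h12
  have h13 := checkSteps_sound F iv 9 262144 γ hiv q0 words hw steps137 137000 32729 32967 h12 chk137
  rw [len137] at h13
  have h14 := checkSteps_sound F iv 9 262144 γ hiv q0 words hw steps138 138000 32967 33209 h13 chk138
  rw [len138] at h14
  have h15 := checkSteps_sound F iv 9 262144 γ hiv q0 words hw steps139 139000 33209 33394 h14 chk139
  rw [len139] at h15
  have h16 := checkSteps_sound F iv 9 262144 γ hiv q0 words hw steps140 140000 33394 33550 h15 chk140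
  rw [len140] at h16
  have h17 := checkSteps_sound F iv 9 262144 γ hiv q0 words hw steps141 141000 33550 33724 h16 chk141
  rw [len141] at h17
  have h18 := checkSteps_sound F iv 9 262144 γ hiv q0 words hw steps142 142000 33724 33918 h17 chk142
  rw [len142] at h18
  have h19 := checkSteps_sound F iv 9 262144 γ hiv q0 words hw steps143 143000 33918 34121 h18 chk143
  rw [len143] at h19
  have h20 := checkSteps_sound F iv 9 262144 γ hiv q0 words hw steps144 144000 34121 34357 h19 chk144
  rw [len144] at h20
  have h21 := checkSteps_sound F iv 9 262144 γ hiv q0 words hw steps145 145000 34357 34610 h20 chk145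
  rw [len145] at h21
  have h22 := checkSteps_sound F iv 9 262144 γ hiv q0 words hw steps146 146000 34610 34773 h21 chk146
  rw [len146] at h22
  have h23 := checkSteps_sound F iv 9 262144 γ hiv q0 words hw steps147 147000 34773 34945 h22 chk147
  rw [len147] at h23
  have h24 := checkSteps_sound F iv 9 262144 γ hiv q0 words hw steps148 148000 34945 35153 h23 chk148
  rw [len148] at h24
  have h25 := checkSteps_sound F iv 9 262144 γ hiv q0 words hw steps149 149000 35153 35348 h24 chk149
  rw [len149] at h25
  exact h25

end Cfsg.Agent.Lib.H6.Y9TC
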