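import Cfsg.Agent.Lib.H6.Y9TC.Steps7

set_option autoImplicit false
set_option maxRecDepth 1000000

/-! # invariant through part 7 of Y9 (generated) -/

namespace Cfsg.Agent.Lib.H6.Y9TC

open Cfsg.Agent.Lib.H17.CosetCert Cfsg.Agent.Lib.H6.TC

theorem part7 {G Q : Type} [Group G] [MulAction G Q] (γ : ℕ → G)
    (hiv : ∀ x < 9, γ (iv x) = (γ x)⁻¹) (q0 : Q) (hw : WordsOK γ q0 words)
    (h0 : Inv F 9 γ q0 175000 40635) : Inv F 9 γ q0 184058 42293 := by
  have h1 := checkSteps_sound F iv 9 262144 γ hiv q0 words hw steps175 175000 40635 40822 h0 chk175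
  rw [len175] at h1
  have h2 := checkSteps_sound F iv 9 262144 γ hiv q0 words hw steps176 176000 40822 41050 h1 chk176
  rw [len176] at h2
  have h3 := checkSteps_sound F iv 9 262144 γ hiv q0 words hw steps177 177000 41050 41207 h2 chk177
  rw [len177] at h3
  have h4 := checkSteps_sound F iv 9 262144 γ hiv q0 words hw steps178 178000 41207 41403 h3 chk178
  rw [len178] at h4
  have h5 := checkSteps_sound F iv 9 262144 γ hiv q0 words hw steps179 179000 41403 41607 h4 chk179
  rw [len179] at h5
  have h6 := checkSteps_sound F iv 9 262144 γ hiv q0 words hw steps180 180000 41607 41773 h5 chk180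
  rw [len180] at h6
  have h7 := checkSteps_sound F iv 9 262144 γ hiv q0 words hw steps181 181000 41773 41968 h6 chk181
  rw [len181] at h7
  have h8 := checkSteps_sound F iv 9 262144 γ hiv q0 words hw steps182 182000 41968 42145 h7 chk182
  rw [len182] at h8
  have h9 := checkSteps_sound F iv 9 262144 γ hiv q0 words hw steps183 183000 42145 42287 h8 chk183
  rw [len183] at h9
  have h10 := checkSteps_sound F iv 9 262144 γ hiv q0 words hw steps184 184000 42287 42293 h9 chk184
  rw [len184] at h10
  exact h10

end Cfsg.Agent.Lib.H6.Y9TC
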