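import Cfsg.Agent.Lib.H6.TCMask2
import Cfsg.Agent.Lib.H6.Y9TC.Rows0
import Cfsg.Agent.Lib.H6.Y9TC.Rows1
import Cfsg.Agent.Lib.H6.Y9TC.Rows2

set_option autoImplicit false
set_option maxRecDepth 1000000

/-! # final table of Y9 (generated) -/

namespace Cfsg.Agent.Lib.H6.Y9TC

open Cfsg.Agent.Lib.H17.CosetCert Cfsg.Agent.Lib.H6.TC

/-- all row chunks -/
def rowsAll : List (List ℕ) := [rows0, rows1, rows2, rows3, rows4, rows5, rows6, rows7, rows8, rows9, rows10, rows11, rows12, rows13, rows14, rows15, rows16, rows17, rows18, rows19, rows20, rows21, rows22, rows23, rows24, rows25, rows26, rows27, rows28]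

/-- all row chunks with their bases -/
def rowsAllO : List (ℕ × List ℕ) := [(0, rows0), (1098, rows1), (2412, rows2), (4054, rows3), (5669, rows4), (7476, rows5), (9511, rows6), (11524, rows7), (13385, rows8), (15488, rows9), (17696, rows10), (19497, rows11), (21729, rows12), (23650, rows13), (25959, rows14), (27976, rows15), (30133, rows16), (31133, rows17), (32133, rows18), (33133, rows19), (34133, rows20), (35133, rows21), (36133, rows22), (37133, rows23), (38133, rows24), (39133, rows25), (40133, rows26), (41133, rows27), (42133, rows28)]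

theorem rowsAllO_snd : rowsAllO.map Prod.snd = rowsAll := rfl

/-- all rows -/
def rows : List ℕ := rowsAll.flatten

set_option maxHeartbeats 0 in
theorem mask_all : maskRAllO 262144 rowsAllO = mask := by
  decide +kernel

theorem mask_mem : ∀ j, tb mask j = true → ∃ r ∈ rows, Nat.mod r 262144 = j := by
  intro j hj
  rw [← mask_all] at hj
  have := tb_maskRAllO 262144 rowsAllO j hj
  rw [rowsAllO_snd] at this
  exact this

set_option maxHeartbeats 0 in
theorem rows_length : rows.length = 28160 := by
  decide +kernel

theorem mask_zero : tb mask 0 = true := by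
  decide +kernel

theorem rows_chk : ∀ L ∈ rowsAll, checkRows F iv 9 262144 184058 mask L = true := by
  intro L hL
  simp only [rowsAll, List.mem_cons, List.not_mem_nil, or_false] at hL
  rcases hL with rfl | rfl | rfl | rfl | rfl | rfl | rfl | rfl | rfl | rfl | rfl | rfl | rfl | rfl | rfl | rfl | rfl | rfl | rfl | rfl | rfl | rfl | rfl | rfl | rfl | rfl | rfl | rfl | rfl
  · exact rchk0
  · exact rchk1
  · exact rchk2
  · exact rchk3
  · exact rchk4
  · exact rchk5
  · exact rchk6
  · exact rchk7
  · exact rchk8
  · exact rchk9
  · exact rchk10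
  · exact rchk11
  · exact rchk12
  · exact rchk13
  · exact rchk14
  · exact rchk15
  · exact rchk16
  · exact rchk17
  · exact rchk18
  · exact rchk19
  · exact rchk20
  · exact rchk21
  · exact rchk22
  · exact rchk23
  · exact rchk24
  · exact rchk25
  · exact rchk26
  · exact rchk27
  · exact rchk28

end Cfsg.Agent.Lib.H6.Y9TC
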