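import Cfsg.Agent.Lib.H6.Y9TC.Part0
import Cfsg.Agent.Lib.H6.Y9TC.Part1
import Cfsg.Agent.Lib.H6.Y9TC.Part2
import Cfsg.Agent.Lib.H6.Y9TC.Part3
import Cfsg.Agent.Lib.H6.Y9TC.Part4
import Cfsg.Agent.Lib.H6.Y9TC.Part5
import Cfsg.Agent.Lib.H6.Y9TC.Part6
import Cfsg.Agent.Lib.H6.Y9TC.Part7
import Cfsg.Agent.Lib.H6.Y9TC.Rows

set_option autoImplicit false
set_option maxRecDepth 1000000

/-! # the certified enumeration of Y9 (generated) -/

namespace Cfsg.Agent.Lib.H6.Y9TC

open Cfsg.Agent.Lib.H17.CosetCert Cfsg.Agent.Lib.H6.TC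

/-- every transitive action in which the relator words act trivially and the subgroup words fix the base point has at most 28160 points -/
theorem bound {G Q : Type} [Group G] [MulAction G Q] [MulAction.IsPretransitive G Q] (γ : ℕ → G)
    (hiv : ∀ x < 9, γ (iv x) = (γ x)⁻¹) (q0 : Q) (hw : WordsOK γ q0 words)
    (hgen : Subgroup.closure {g : G | ∃ x < 9, g = γ x} = ⊤) : Finite Q ∧ Nat.card Q ≤ 28160 := by
  have h0 := inv_zero F 9 γ q0
  have h1 := part0 γ hiv q0 hw h0
  have h2 := part1 γ hiv q0 hw h1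
  have h3 := part2 γ hiv q0 hw h2
  have h4 := part3 γ hiv q0 hw h3
  have h5 := part4 γ hiv q0 hw h4
  have h6 := part5 γ hiv q0 hw h5
  have h7 := part6 γ hiv q0 hw h6
  have h8 := part7 γ hiv q0 hw h7
  have hm := mask_mem
  have := card_le F iv 9 262144 γ hiv q0 184058 42293 h8 rows mask hm mask_zero
    (checkRows_of_forall F iv 9 262144 184058 mask rowsAll rows_chk) hgen
  rw [rows_length] at this
  exact this

end Cfsg.Agent.Lib.H6.Y9TC
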