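import Cfsg.Agent.Lib.H6.Y9TC.Steps0

set_option autoImplicit false
set_option maxRecDepth 1000000

/-! # invariant through part 0 of Y9 (generated) -/

namespace Cfsg.Agent.Lib.H6.Y9TC

open Cfsg.Agent.Lib.H17.CosetCert Cfsg.Agent.Lib.H6.TC

theorem part0 {G Q : Type} [Group G] [MulAction G Q] (γ : ℕ → G)
    (hiv : ∀ x < 9, γ (iv x) = (γ x)⁻¹) (q0 : Q) (hw : WordsOK γ q0 words)
    (h0 : Inv F 9 γ q0 0 1) : Inv F 9 γ q0 25000 6245 := by
  have h1 := checkSteps_sound F iv 9 262144 γ hiv q0 words hw steps0 0 1 171 h0 chk0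
  rw [len0] at h1
  have h2 := checkSteps_sound F iv 9 262144 γ hiv q0 words hw steps1 1000 171 356 h1 chk1
  rw [len1] at h2
  have h3 := checkSteps_sound F iv 9 262144 γ hiv q0 words hw steps2 2000 356 557 h2 chk2
  rw [len2] at h3
  have h4 := checkSteps_sound F iv 9 262144 γ hiv q0 words hw steps3 3000 557 771 h3 chk3
  rw [len3] at h4
  have h5 := checkSteps_sound F iv 9 262144 γ hiv q0 words hw steps4 4000 771 995 h4 chk4
  rw [len4] at h5
  have h6 := checkSteps_sound F iv 9 262144 γ hiv q0 words hw steps5 5000 995 1229 h5 chk5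
  rw [len5] at h6
  have h7 := checkSteps_sound F iv 9 262144 γ hiv q0 words hw steps6 6000 1229 1440 h6 chk6
  rw [len6] at h7
  have h8 := checkSteps_sound F iv 9 262144 γ hiv q0 words hw steps7 7000 1440 1695 h7 chk7
  rw [len7] at h8
  have h9 := checkSteps_sound F iv 9 262144 γ hiv q0 words hw steps8 8000 1695 1913 h8 chk8
  rw [len8] at h9
  have h10 := checkSteps_sound F iv 9 262144 γ hiv q0 words hw steps9 9000 1913 2184 h9 chk9
  rw [len9] at h10
  have h11 := checkSteps_sound F iv 9 262144 γ hiv q0 words hw steps10 10000 2184 2426 h10 chk10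
  rw [len10] at h11
  have h12 := checkSteps_sound F iv 9 262144 γ hiv q0 words hw steps11 11000 2426 2660 h11 chk11
  rw [len11] at h12
  have h13 := checkSteps_sound F iv 9 262144 γ hiv q0 words hw steps12 12000 2660 2950 h12 chk12
  rw [len12] at h13
  have h14 := checkSteps_sound F iv 9 262144 γ hiv q0 words hw steps13 13000 2950 3198 h13 chk13
  rw [len13] at h14
  have h15 := checkSteps_sound F iv 9 262144 γ hiv q0 words hw steps14 14000 3198 3456 h14 chk14
  rw [len14] at h15
  have h16 := checkSteps_sound F iv 9 262144 γ hiv q0 words hw steps15 15000 3456 3765 h15 chk15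
  rw [len15] at h16
  have h17 := checkSteps_sound F iv 9 262144 γ hiv q0 words hw steps16 16000 3765 4030 h16 chk16
  rw [len16] at h17
  have h18 := checkSteps_sound F iv 9 262144 γ hiv q0 words hw steps17 17000 4030 4278 h17 chk17
  rw [len17] at h18
  have h19 := checkSteps_sound F iv 9 262144 γ hiv q0 words hw steps18 18000 4278 4552 h18 chk18
  rw [len18] at h19
  have h20 := checkSteps_sound F iv 9 262144 γ hiv q0 words hw steps19 19000 4552 4843 h19 chk19
  rw [len19] at h20
  have h21 := checkSteps_sound F iv 9 262144 γ hiv q0 words hw steps20 20000 4843 5161 h20 chk20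
  rw [len20] at h21
  have h22 := checkSteps_sound F iv 9 262144 γ hiv q0 words hw steps21 21000 5161 5436 h21 chk21
  rw [len21] at h22
  have h23 := checkSteps_sound F iv 9 262144 γ hiv q0 words hw steps22 22000 5436 5686 h22 chk22
  rw [len22] at h23
  have h24 := checkSteps_sound F iv 9 262144 γ hiv q0 words hw steps23 23000 5686 5967 h23 chk23
  rw [len23] at h24
  have h25 := checkSteps_sound F iv 9 262144 γ hiv q0 words hw steps24 24000 5967 6245 h24 chk24
  rw [len24] at h25
  exact h25

end Cfsg.Agent.Lib.H6.Y9TC
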